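import Groth.Prelude.Def_FrobAlg
import Groth.Agent.Lib.TensorCoord.Basic
import Mathlib.FieldTheory.PerfectClosure
import Mathlib.Algebra.Module.Projective
import Mathlib.Algebra.DirectSum.Finsupp
import Mathlib.LinearAlgebra.DirectSum.Finsupp
import Mathlib.LinearAlgebra.TensorProduct.Tower

/-!
# The perfect closure when Frobenius is projective
-/

namespace GrothLib.PerfProj

universe u v

open TensorProduct

variable (p : ℕ) [Fact p.Prime] (R : Type u) [CommRing R] [CharP R p]

theorem projective_trans {S : Type*} [CommRing S] [Algebra R S] {M : Type*} [AddCommGroup M] [Module R M]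
    [Module S M] [IsScalarTower R S M] [Module.Projective R S] [Module.Projective S M] :
    Module.Projective R M := by
  classical
  obtain ⟨s, hs⟩ := Module.projective_def'.1 (inferInstance : Module.Projective S M)
  haveI : Module.Projective R (M →₀ S) := Module.Projective.of_equiv' (finsuppLequivDFinsupp R).symm
  exact Module.Projective.of_split (s.restrictScalars R)
    ((Finsupp.linearCombination S (id : M → M)).restrictScalars R)
    (LinearMap.ext fun m => LinearMap.congr_fun hs m)

set_option linter.unusedVariables false in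
/-- A copy of `R`, a module over `R` through the `n`-th iterate of Frobenius. -/
@[nolint unusedArguments]
def Tw (p : ℕ) (R : Type u) (n : ℕ) : Type u := R

instance (n : ℕ) : CommRing (Tw p R n) := inferInstanceAs (CommRing R)

/-- The identity of underlying rings. -/
def tw (n : ℕ) : R ≃+* Tw p R n := RingEquiv.refl R

instance instModuleTw (n : ℕ) : Module R (Tw p R n) :=
  Module.compHom (Tw p R n) ((tw p R n : R →+* Tw p R n).comp (iterateFrobenius R p n))

theorem tw_smul (n : ℕ) (a y : R) : a • tw p R n y = tw p R n (a ^ p ^ n * y) := rfl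

theorem projective_tw [Module.Projective R (FrobAlg.Twist p R)] : ∀ n, Module.Projective R (Tw p R n) := by
  intro n
  induction n with
  | zero =>
    let e : R ≃ₗ[R] Tw p R 0 :=
      { (tw p R 0).toAddEquiv with
        map_smul' := fun a y => by
          show tw p R 0 (a * y) = a • tw p R 0 y
          rw [tw_smul, pow_zero, pow_one] }
    exact Module.Projective.of_equiv' e
  | succ n ih =>
    letI : Module (FrobAlg.Twist p R) (Tw p R (n + 1)) := Module.compHom (Tw p R (n + 1))
      (((tw p R (n + 1) : R →+* Tw p R (n + 1)).comp (iterateFrobenius R p n)).comp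
        ((FrobAlg.toTwist p R).symm : FrobAlg.Twist p R →+* R))
    haveI : IsScalarTower R (FrobAlg.Twist p R) (Tw p R (n + 1)) := ⟨fun a s y => by
      change tw p R (n + 1) (((FrobAlg.toTwist p R).symm (a • s)) ^ p ^ n) * y =
        tw p R (n + 1) (a ^ p ^ (n + 1)) * (tw p R (n + 1) (((FrobAlg.toTwist p R).symm s) ^ p ^ n) * y)
      rw [Algebra.smul_def, FrobAlg.algebraMap_twist, map_mul, RingEquiv.symm_apply_apply, mul_pow, map_mul,
        ← pow_mul, ← pow_succ', mul_assoc]⟩
    haveI : Module.Projective (FrobAlg.Twist p R) (Tw p R (n + 1)) := by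
      let σ : R →+* FrobAlg.Twist p R := (FrobAlg.toTwist p R : R →+* FrobAlg.Twist p R)
      let σ' : FrobAlg.Twist p R →+* R := ((FrobAlg.toTwist p R).symm : FrobAlg.Twist p R →+* R)
      haveI i1 : RingHomInvPair σ σ' := ⟨RingHom.ext fun x => rfl, RingHom.ext fun x => rfl⟩
      haveI i2 : RingHomInvPair σ' σ := ⟨RingHom.ext fun x => rfl, RingHom.ext fun x => rfl⟩
      let e : Tw p R n ≃ₛₗ[σ] Tw p R (n + 1) :=
        { (((tw p R n).symm.trans (tw p R (n + 1))).toAddEquiv) with map_smul' := fun a y => rfl }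
      exact Module.Projective.of_equiv e
    exact projective_trans R (S := FrobAlg.Twist p R)

/-- The map `y ↦ y^(1/p^n)` to the perfect closure. -/
noncomputable def incl (n : ℕ) :
    letI : Algebra R (PerfectClosure R p) := (PerfectClosure.of R p).toAlgebra
    Tw p R n →ₗ[R] PerfectClosure R p :=
  letI : Algebra R (PerfectClosure R p) := (PerfectClosure.of R p).toAlgebra
  { toFun := fun y => PerfectClosure.mk R p (n, (tw p R n).symm y)
    map_add' := fun x y => by
      refine (frobenius_inj' p n ?_)
      simp only [map_add, ← iterate_frobenius, PerfectClosure.iterate_frobenius_mk]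
      rw [iterate_map_add (frobenius (PerfectClosure R p) p), PerfectClosure.iterate_frobenius_mk,
        PerfectClosure.iterate_frobenius_mk]
    map_smul' := fun a y => by
      obtain ⟨y, rfl⟩ := (tw p R n).surjective y
      rw [tw_smul, RingEquiv.symm_apply_apply, RingEquiv.symm_apply_apply, RingHom.id_apply, Algebra.smul_def,
        RingHom.algebraMap_toAlgebra, PerfectClosure.of_apply, PerfectClosure.mk_mul_mk]
      simp [iterate_frobenius] }
where
  frobenius_inj' (p : ℕ) [Fact p.Prime] {R : Type u} [CommRing R] [CharP R p] (n : ℕ)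
      {x y : PerfectClosure R p} (h : x ^ p ^ n = y ^ p ^ n) : x = y :=
    (bijective_iterateFrobenius (PerfectClosure R p) p n).1 h

theorem exists_splitting [Module.Projective R (FrobAlg.Twist p R)] :
    ∃ θ : R →+ R, (∀ a b, θ (a ^ p * b) = a * θ b) ∧ θ 1 = 1 := by
  classical
  obtain ⟨s, hs⟩ := Module.projective_def'.1 (inferInstance : Module.Projective R (FrobAlg.Twist p R))
  let c := s 1
  have h1 : (1 : FrobAlg.Twist p R) = c.sum fun j r => r • j := by
    conv_lhs => rw [← LinearMap.id_apply (R := R) (1 : FrobAlg.Twist p R), ← hs]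
    rfl
  have htop : Ideal.span (Set.range c) = ⊤ := by
    by_contra hne
    obtain ⟨P, hP, hle⟩ := Ideal.exists_le_maximal _ hne
    have h2 : (FrobAlg.toTwist p R).symm (1 : FrobAlg.Twist p R) ∈ P := by
      rw [h1, Finsupp.sum, map_sum]
      refine Ideal.sum_mem _ fun j _ => ?_
      rw [Algebra.smul_def, map_mul, FrobAlg.algebraMap_twist, RingEquiv.symm_apply_apply]
      exact P.mul_mem_right _ (Ideal.pow_mem_of_mem _ (hle (Ideal.subset_span ⟨j, rfl⟩)) _ (Fact.out : p.Prime).pos)
    rw [map_one] at h2
    exact hP.ne_top ((Ideal.eq_top_iff_one P).2 h2)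
  obtain ⟨l, hl⟩ := Finsupp.mem_span_range_iff_exists_finsupp.1 ((Ideal.eq_top_iff_one _).1 htop)
  let φ : FrobAlg.Twist p R →ₗ[R] R := l.sum fun j r => r • (Finsupp.lapply j ∘ₗ s)
  refine ⟨φ.toAddMonoidHom.comp (FrobAlg.toTwist p R).toAddMonoidHom, fun a b => ?_, ?_⟩
  · change φ (FrobAlg.toTwist p R (a ^ p * b)) = a * φ (FrobAlg.toTwist p R b)
    rw [map_mul, ← FrobAlg.algebraMap_twist, ← Algebra.smul_def, map_smul, smul_eq_mul]
  · change φ (FrobAlg.toTwist p R 1) = 1
    rw [map_one, ← hl]
    simp only [φ, Finsupp.sum, LinearMap.coe_sum, Finset.sum_apply, LinearMap.smul_apply, LinearMap.comp_apply,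
      Finsupp.lapply_apply]
    rfl

theorem exists_retraction [Module.Projective R (FrobAlg.Twist p R)] (n : ℕ) :
    letI : Algebra R (PerfectClosure R p) := (PerfectClosure.of R p).toAlgebra
    ∃ r : PerfectClosure R p →ₗ[R] Tw p R n, r ∘ₗ incl p R n = LinearMap.id := by
  letI : Algebra R (PerfectClosure R p) := (PerfectClosure.of R p).toAlgebra
  obtain ⟨θ, hθ, hθ1⟩ := exists_splitting p R
  have hiter : ∀ (m : ℕ) (a b : R), (⇑θ)^[m] (a ^ p ^ m * b) = a * (⇑θ)^[m] b := by
    intro m
    induction m with
    | zero => intro a b; simp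
    | succ m ih => intro a b; rw [Function.iterate_succ_apply, pow_succ, pow_mul, hθ, ih, ← Function.iterate_succ_apply]
  have hone : ∀ m, (⇑θ)^[m] 1 = 1 := fun m => by
    induction m with
    | zero => rfl
    | succ m ih => rw [Function.iterate_succ_apply, hθ1, ih]
  let g : ℕ × R → R := fun x => (⇑θ)^[x.1] (x.2 ^ p ^ n)
  have hg : ∀ x y, PerfectClosure.R R p x y → g x = g y := by
    rintro _ _ ⟨m, x⟩
    change (⇑θ)^[m] (x ^ p ^ n) = (⇑θ)^[m + 1] ((frobenius R p x) ^ p ^ n)
    rw [Function.iterate_succ_apply, frobenius_def, ← pow_mul, mul_comm, pow_mul,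
      ← mul_one ((x ^ p ^ n) ^ p), hθ, hθ1, mul_one]
  refine ⟨{ toFun := fun x => tw p R n (x.liftOn g hg), map_add' := fun x y => ?_, map_smul' := fun a x => ?_ }, ?_⟩
  · induction x using PerfectClosure.induction_on with
    | h x =>
    induction y using PerfectClosure.induction_on with
    | h y =>
    rw [PerfectClosure.mk_add_mk, PerfectClosure.liftOn_mk, PerfectClosure.liftOn_mk, PerfectClosure.liftOn_mk,
      ← map_add]
    refine congrArg _ ?_
    simp only [g, iterate_frobenius, add_pow_char_pow, iterate_map_add]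
    congr 1
    · rw [add_comm x.1, Function.iterate_add_apply]
      nth_rw 1 [show (x.2 ^ p ^ y.1) ^ p ^ n = (x.2 ^ p ^ n) ^ p ^ y.1 * 1 by
        rw [mul_one, ← pow_mul, ← pow_mul, mul_comm]]
      rw [← Function.iterate_add_apply, add_comm y.1, Function.iterate_add_apply, hiter, hone, mul_one]
    · rw [Function.iterate_add_apply]
      nth_rw 1 [show (y.2 ^ p ^ x.1) ^ p ^ n = (y.2 ^ p ^ n) ^ p ^ x.1 * 1 by
        rw [mul_one, ← pow_mul, ← pow_mul, mul_comm]]
      rw [← Function.iterate_add_apply, add_comm x.1, Function.iterate_add_apply, hiter, hone, mul_one]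
  · induction x using PerfectClosure.induction_on with
    | h x =>
    rw [Algebra.smul_def, RingHom.algebraMap_toAlgebra, PerfectClosure.of_apply, PerfectClosure.mk_mul_mk,
      RingHom.id_apply, PerfectClosure.liftOn_mk, PerfectClosure.liftOn_mk, tw_smul]
    refine congrArg _ ?_
    simp only [g, iterate_frobenius, zero_add, pow_zero, pow_one, mul_pow]
    rw [← pow_mul, mul_comm (p ^ x.1), pow_mul, hiter]
  · refine LinearMap.ext fun y => ?_
    change tw p R n ((PerfectClosure.mk R p (n, (tw p R n).symm y)).liftOn g hg) = y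
    rw [PerfectClosure.liftOn_mk]
    simp only [g]
    rw [← mul_one ((tw p R n).symm y ^ p ^ n), hiter, hone, mul_one, RingEquiv.apply_symm_apply]

theorem mk_lift (m n : ℕ) (h : m ≤ n) (y : R) :
    PerfectClosure.mk R p (n, y ^ p ^ (n - m)) = PerfectClosure.mk R p (m, y) := by
  induction n, h using Nat.le_induction with
  | base => simp
  | succ n hn ih => rw [Nat.succ_sub hn, pow_succ, pow_mul, PerfectClosure.mk_succ_pow, ih]

theorem exists_mem_range (L : Type v) [AddCommGroup L] [Module R L] :
    letI : Algebra R (PerfectClosure R p) := (PerfectClosure.of R p).toAlgebra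
    ∀ x : PerfectClosure R p ⊗[R] L, ∃ n, ∀ n', n ≤ n' → ∃ z, LinearMap.rTensor L (incl p R n') z = x := by
  letI : Algebra R (PerfectClosure R p) := (PerfectClosure.of R p).toAlgebra
  intro x
  induction x using TensorProduct.induction_on with
  | zero => exact ⟨0, fun n' _ => ⟨0, map_zero _⟩⟩
  | tmul a l =>
    obtain ⟨⟨m, y⟩, rfl⟩ := PerfectClosure.mk_surjective R p a
    refine ⟨m, fun n' hn' => ⟨tw p R n' (y ^ p ^ (n' - m)) ⊗ₜ l, ?_⟩⟩
    rw [LinearMap.rTensor_tmul]
    congr 1
    exact mk_lift p R m n' hn' y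
  | add a b ha hb =>
    obtain ⟨n, hn⟩ := ha
    obtain ⟨n₁, hn₁⟩ := hb
    refine ⟨max n n₁, fun n' h => ?_⟩
    obtain ⟨z, rfl⟩ := hn n' (le_of_max_le_left h)
    obtain ⟨z', rfl⟩ := hn₁ n' (le_of_max_le_right h)
    exact ⟨z + z', map_add _ _ _⟩

/-- Tensoring a jointly injective family with the perfect closure keeps it jointly injective. -/
theorem injective_pi [Module.Projective R (FrobAlg.Twist p R)] {κ : Type*} {L : Type v} [AddCommGroup L]
    [Module R L] {T : κ → Type v} [∀ i, AddCommGroup (T i)] [∀ i, Module R (T i)]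
    (f : ∀ i, L →ₗ[R] T i) (hf : ∀ x, (∀ i, f i x = 0) → x = 0) :
    letI : Algebra R (PerfectClosure R p) := (PerfectClosure.of R p).toAlgebra
    Function.Injective (LinearMap.pi fun i => LinearMap.lTensor (PerfectClosure R p) (f i) :
      PerfectClosure R p ⊗[R] L →ₗ[R] ∀ i, PerfectClosure R p ⊗[R] T i) := by
  letI : Algebra R (PerfectClosure R p) := (PerfectClosure.of R p).toAlgebra
  rw [injective_iff_map_eq_zero]
  intro x hx
  obtain ⟨n, hn⟩ := exists_mem_range p R L x
  obtain ⟨z, rfl⟩ := hn n le_rfl
  obtain ⟨r, hr⟩ := exists_retraction p R n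
  haveI := projective_tw p R n
  have hz : z = 0 := by
    apply GrothLib.TensorCoord.injective_pi_lTensor f hf
    rw [map_zero]
    funext i
    have h1 : LinearMap.lTensor (PerfectClosure R p) (f i) (LinearMap.rTensor L (incl p R n) z) = 0 :=
      congrFun hx i
    rw [← LinearMap.comp_apply, LinearMap.lTensor_comp_rTensor, ← LinearMap.rTensor_comp_lTensor,
      LinearMap.comp_apply] at h1
    have h2 := congrArg (LinearMap.rTensor (T i) r) h1
    rwa [map_zero, ← LinearMap.comp_apply (LinearMap.rTensor (T i) r), ← LinearMap.rTensor_comp, hr,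
      LinearMap.rTensor_id, LinearMap.id_apply] at h2
  rw [hz, map_zero]

end GrothLib.PerfProj
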